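import Groth.Agent.Lib.CurvePoint
import Groth.Agent.GeomField.Connected
import Groth.Agent.GrpSchLib.SepPoints

/-! Rational points of smooth curves over separably closed fields. -/

noncomputable section

set_option linter.style.haveILetI false
set_option linter.unusedSectionVars false
set_option backward.isDefEq.respectTransparency false
set_option backward.isDefEq.respectTransparency.types false

universe u

open CategoryTheory CategoryTheory.Limits AlgebraicGeometry TopologicalSpace Opposite

namespace Groth.Agent.SepCurveTwist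

open Groth.Agent.CurvePoint

variable {X : Scheme.{u}} (k : Type u) [Field k] [X.Over (Spec (CommRingCat.of k))]

theorem surjective_resMap_section (s : Spec (CommRingCat.of k) ⟶ X)
    (hs : s ≫ (X ↘ Spec (CommRingCat.of k)) = 𝟙 _) :
    Function.Surjective (Curv2.resMap k X (s (IsLocalRing.closedPoint k))) := by
  obtain ⟨⟨x, φ⟩, hφ⟩ := (Scheme.SpecToEquivOfField k X).symm.surjective s
  have hsx : Spec.map φ ≫ X.fromSpecResidueField x = s := hφ
  obtain rfl : x = s (IsLocalRing.closedPoint k) := by
    have h : X.fromSpecResidueField x (Spec.map φ (IsLocalRing.closedPoint k)) =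
        s (IsLocalRing.closedPoint k) := congr($hsx (IsLocalRing.closedPoint k))
    have h' : X.fromSpecResidueField x (Spec.map φ (IsLocalRing.closedPoint k)) ∈
        Set.range (X.fromSpecResidueField x) := ⟨_, rfl⟩
    rw [Scheme.range_fromSpecResidueField, Set.mem_singleton_iff] at h'
    exact h'.symm.trans h
  have h : CommRingCat.ofHom (Curv2.resMap k X (s (IsLocalRing.closedPoint k))) ≫ φ = 𝟙 (CommRingCat.of k) :=
    Spec.map_injective (by
      rw [Spec.map_comp, ← GeomConn5.spec_resMap, ← Category.assoc, hsx, hs, Spec.map_id])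
  intro y
  exact ⟨φ y, φ.hom.injective (congr($h (φ y)))⟩

variable [IsSepClosed k] [Smooth (X ↘ Spec (CommRingCat.of k))] [IsProper (X ↘ Spec (CommRingCat.of k))]

/-- Rational closed points avoid any closed proper subset. -/
theorem exists_rational_notMem (T : Set X) (hT : IsClosed T) (hne : T ≠ Set.univ) :
    ∃ x : X, IsClosed ({x} : Set X) ∧ Function.Surjective (Curv2.resMap k X x) ∧ x ∉ T := by
  obtain ⟨y, hy⟩ := Set.ne_univ_iff_exists_notMem _ |>.1 hne
  obtain ⟨s, hs, hsO⟩ := GrpSchLib.exists_point_of_smooth (X ↘ Spec (CommRingCat.of k))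
    ⟨Tᶜ, hT.isOpen_compl⟩ (x := y) hy
  refine ⟨s (IsLocalRing.closedPoint k), ?_, surjective_resMap_section k s hs, hsO⟩
  haveI : IsClosedImmersion (s ≫ (X ↘ Spec (CommRingCat.of k))) := by rw [hs]; infer_instance
  haveI : IsClosedImmersion s := IsClosedImmersion.of_comp s (X ↘ Spec (CommRingCat.of k))
  convert s.isClosedEmbedding.isClosed_range
  ext z
  constructor
  · rintro rfl
    exact ⟨_, rfl⟩
  · rintro ⟨w, rfl⟩
    exact congrArg s (@Subsingleton.elim (Spec (CommRingCat.of k)) inferInstance w _)

theorem geometricallyConnected [IsIntegral X] : GeometricallyConnected (X ↘ Spec (CommRingCat.of k)) := by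
  obtain ⟨x, -, hx, -⟩ := exists_rational_notMem k (∅ : Set X) isClosed_empty
    (fun h => by
      have : genericPoint X ∈ (∅ : Set X) := h ▸ Set.mem_univ _
      exact this)
  exact GeomField.geometricallyConnected_of_point x fun a _ => hx a

omit [IsSepClosed k] in
/-- The structure sheaf of a rational point has Euler characteristic one. -/
theorem euler_quot [IsIntegral X] (p : X) (hp : IsClosed ({p} : Set X))
    (hr : Function.Surjective (Curv2.resMap k X p)) :
    Curv2.euler k X (ClSub.quotMod (ptIdeal p hp)) = 1 := by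
  classical
  haveI := CurveCohLib.isNoetherian_of_proper (k := k) (X := X)
  let Q := ClSub.quotMod (ptIdeal p hp)
  obtain ⟨h, hfin⟩ := CurveCohLib.euler_eq_sum_stalks (k := k) (isCoh_quot p hp k)
    (closed_support p hp) {p} (by simpa using support_quot_subset p hp)
  rw [h, Finset.sum_singleton]
  letI := CurveCohLib.stalkModuleK k Q p
  haveI := hfin p (Finset.mem_singleton_self p)
  haveI : Nontrivial (Q.presheaf.stalk p) := not_subsingleton_iff_nontrivial.1 (not_subsingleton_stalk p hp)
  obtain ⟨q₀, hq₀⟩ : ∃ q₀ : Q.presheaf.stalk p, ∀ q, ∃ a : X.presheaf.stalk p, q = a • q₀ :=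
    ParShLib.exists_germ_smul (ptIdeal p hp) p
  let L : k →ₗ[k] Q.presheaf.stalk p :=
    { toFun := fun c => Curv2.stalkMap k X p c • q₀
      map_add' := fun c d => by rw [map_add, add_smul]
      map_smul' := fun a c => by
        show Curv2.stalkMap k X p (a * c) • q₀ = Curv2.stalkMap k X p a • (Curv2.stalkMap k X p c • q₀)
        rw [map_mul, mul_smul] }
  have hL : Function.Surjective L := fun q => by
    obtain ⟨a, ha⟩ := hq₀ q
    obtain ⟨c, hc⟩ := hr (X.residue p a)
    have hc' : a - Curv2.stalkMap k X p c ∈ IsLocalRing.maximalIdeal (X.presheaf.stalk p) :=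
      Ideal.Quotient.eq.1 hc.symm
    refine ⟨c, ?_⟩
    have h0 := smul_quot_eq_zero p hp hc' q₀
    rw [sub_smul, sub_eq_zero] at h0
    exact h0.symm.trans (ha.symm : a • q₀ = q)
  have h1 := LinearMap.finrank_le_finrank_of_surjective hL
  have h2 : 0 < Module.finrank k (Q.presheaf.stalk p) := Module.finrank_pos
  rw [Module.finrank_self] at h1
  exact_mod_cast le_antisymm h1 h2

end Groth.Agent.SepCurveTwist
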