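import Groth.Agent.SepCurveTwist.Rational
import Groth.Agent.CurveBC.Main
import Groth.Agent.CurveCohLib.Nonspecial
import Groth.Agent.Lib.CurveDualPrep
import Groth.Agent.QCoh.AnnIdeal
import Groth.Agent.H23.PicMul
import Groth.Agent.ZClosLib.CohDescent

/-! Twists by rational points after an extension of a separably closed field. -/

noncomputable section

set_option linter.style.haveILetI false
set_option linter.unusedSectionVars false
set_option backward.isDefEq.respectTransparency false
set_option backward.isDefEq.respectTransparency.types false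

universe u

open CategoryTheory CategoryTheory.Limits AlgebraicGeometry TopologicalSpace Opposite
open Groth.Agent.PnCoh.Finite (mapLin)

namespace Groth.Agent.SepCurveTwist

open Groth.Agent.CurveBundle Groth.Agent.CurveSlope Groth.Agent.CurvePoint

theorem homOfClass_map {Y : Scheme.{u}} (K : Type u) [Field K] [Y.Over (Spec (CommRingCat.of K))]
    {P R : Y.Modules} (j : P ⟶ R) (t : Coh.HH Y P 0) :
    CurveSpecial.homOfClass (mapLin K j 0 t) = CurveSpecial.homOfClass t ≫ j := by
  refine CurveRR.hom_ext_one ?_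
  rw [CurveSpecial.homOfClass_one]
  show _ = j.app ⊤ ((CurveSpecial.homOfClass t).app ⊤ (H23.Frame.one ⊤))
  rw [CurveSpecial.homOfClass_one]
  exact (Sheaf.H.equiv₀_naturality isTerminalTop ((QCoh.toAbFunctor Y).map j) t).symm

section Core

variable {Y : Scheme.{u}} (K : Type u) [Field K] [Y.Over (Spec (CommRingCat.of K))]
  [IsIntegral Y] [IsProper (Y ↘ Spec (CommRingCat.of K))]

/-- Nonspecial line bundles. -/
theorem h1_of_genus_le (hdim : topologicalKrullDim Y = 1) {M : Y.Modules} (hM : PicF.IsInvertible M)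
    (h : (Curv2.genus K Y : ℤ) ≤ Curv2.euler K Y M) : Subsingleton (Coh.HH Y M 1) := by
  haveI := CurveCohLib.isNoetherian_of_proper (k := K) (X := Y)
  have hc := CurveDeg.isCoh_of_isInvertible hM
  exact CurveCohLib.Nonspecial.h1_of_euler K hdim hc
    (fun φ hφ => CurveCohLib.Nonspecial.section_of_sub K hc hM (𝟙 M) φ hφ) h

/-- Away from the zeros of a section, twisting by a torsion quotient loses a section. -/
theorem finrank_lt {A B C : Y.Modules} (j : A ⟶ B) (p : B ⟶ C) (w : j ≫ p = 0)
    (hS : (ShortComplex.mk j p w).ShortExact) (hB : Coh.IsCoh B) (hC : Curv2.euler K Y C ≠ 0)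
    (t : Coh.HH Y B 0)
    (hdis : ∀ y ∈ CohB1.support C, Subsingleton ((cokernel (CurveSpecial.homOfClass t)).presheaf.stalk y)) :
    Module.finrank K (Coh.HH Y A 0) < Module.finrank K (Coh.HH Y B 0) := by
  haveI := CurveCohLib.isNoetherian_of_proper (k := K) (X := Y)
  haveI := CurveCohLib.finite_HH (k := K) hB 0
  have hinj := CurveCohLib.mapLin_f_zero_injective K hS
  refine lt_of_le_of_ne (LinearMap.finrank_le_finrank_of_injective hinj) fun heq => hC ?_
  haveI : Module.Finite K (Coh.HH Y A 0) := Module.Finite.of_injective _ hinj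
  obtain ⟨a, ha⟩ := (LinearMap.injective_iff_surjective_of_finrank_eq_finrank heq).1 hinj t
  have hfac : CurveSpecial.homOfClass t ≫ p = 0 := by
    rw [← ha, homOfClass_map, Category.assoc, w, comp_zero]
  let q : cokernel (CurveSpecial.homOfClass t) ⟶ C := cokernel.desc _ p hfac
  haveI : Epi p := hS.epi_g
  haveI : Epi q := epi_of_epi_fac (cokernel.π_desc _ p hfac)
  refine euler_eq_zero_of_isZero K (CurveCohLib.isZero_of_subsingleton_stalks fun y => ?_)
  by_contra hy
  let F := DerSch.stalkFunctor Y y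
  haveI : Epi (F.map q) := inferInstance
  haveI := hdis y hy
  exact hy ⟨fun a b => by
    obtain ⟨a', rfl⟩ := (ModuleCat.epi_iff_surjective (F.map q)).1 inferInstance a
    obtain ⟨b', rfl⟩ := (ModuleCat.epi_iff_surjective (F.map q)).1 inferInstance b
    exact congrArg _ (Subsingleton.elim (α := (cokernel (CurveSpecial.homOfClass t)).presheaf.stalk y) a' b')⟩

include K in
/-- The cokernel of a nonzero section is supported at finitely many closed points. -/
theorem finite_support_cokernel (hdim : topologicalKrullDim Y = 1) {M : Y.Modules} (hM : PicF.IsInvertible M)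
    (φ : Coh.structureModule Y ⟶ M) (hφ : φ ≠ 0) :
    (CohB1.support (cokernel φ)).Finite ∧ ∀ y ∈ CohB1.support (cokernel φ), IsClosed ({y} : Set Y) := by
  haveI := CurveCohLib.isNoetherian_of_proper (k := K) (X := Y)
  have hc := CurveDeg.isCoh_of_isInvertible hM
  obtain ⟨hm, hrk⟩ := CurveCohLib.Nonspecial.section_of_sub K hc hM (𝟙 M) φ hφ
  have hTc : Coh.IsCoh (cokernel φ) := QCoh.isCoh_cokernel QCoh.isQCoh_structureModule hc φ
  have hcl : ∀ y ∈ CohB1.support (cokernel φ), IsClosed ({y} : Set Y) := fun x hx => by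
    by_contra hxc
    obtain rfl := CurveCohLib.eq_genericPoint_of_not_isClosed hdim hxc
    letI := (isField_stalk_generic (X := Y)).toField
    haveI := finite_stalk_of_coh hTc (genericPoint Y)
    exact hx (Module.finrank_zero_iff.1 hrk)
  exact ⟨CurveCohLib.finite_of_closedPoints (QCoh.isClosed_support_of_isFT hTc.1 hTc.2) hcl, hcl⟩

end Core

variable (k : Type u) [Field k] [IsSepClosed k] {X : Scheme.{u}} [X.Over (Spec (CommRingCat.of k))]
  [IsProper (X ↘ Spec (CommRingCat.of k))] [Smooth (X ↘ Spec (CommRingCat.of k))] [IsIntegral X]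
  (hdim : topologicalKrullDim X = 1)
  (K : Type u) [Field K] [Algebra k K] {Y : Scheme.{u}} [Y.Over (Spec (CommRingCat.of K))]
  (g : Y ⟶ X) (hpb : IsPullback g (Y ↘ Spec (CommRingCat.of K)) (X ↘ Spec (CommRingCat.of k))
      (Spec.map (CommRingCat.ofHom (algebraMap k K))))

include hdim hpb

/-- One rational point fewer. -/
theorem exists_point_drop [IsIntegral Y] [IsProper (Y ↘ Spec (CommRingCat.of K))]
    (hdimY : topologicalKrullDim Y = 1) {M : Y.Modules} (hM : PicF.IsInvertible M)
    (hsec : Nontrivial (Coh.HH Y M 0)) :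
    ∃ I : X.Modules, PicF.IsInvertible I ∧
      Curv2.euler K Y ((DCoh.tensorBi.obj M).obj ((Scheme.Modules.pullback g).obj I)) =
        Curv2.euler K Y M - 1 ∧
      Module.finrank K (Coh.HH Y ((DCoh.tensorBi.obj M).obj ((Scheme.Modules.pullback g).obj I)) 0) <
        Module.finrank K (Coh.HH Y M 0) := by
  haveI := CurveCohLib.isNoetherian_of_proper (k := K) (X := Y)
  haveI := CurveCohLib.isNoetherian_of_proper (k := k) (X := X)
  obtain ⟨t, ht⟩ := exists_ne (0 : Coh.HH Y M 0)
  obtain ⟨hfin, hcl⟩ := finite_support_cokernel K hdimY hM _ (CurveSpecial.homOfClass_ne_zero ht)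
  obtain ⟨hgf, hgs⟩ := CurveBC.flat_surjective k K g hpb
  haveI := hgf
  haveI := hgs
  -- the image of the generic point is the generic point
  have hgen : g (genericPoint Y) = genericPoint X := by
    obtain ⟨y, hy⟩ := g.surjective (genericPoint X)
    have h1 : g (genericPoint Y) ⤳ genericPoint X :=
      hy ▸ ((genericPoint_spec Y).specializes (Set.mem_univ y)).map g.continuous
    exact (h1.antisymm ((genericPoint_spec X).specializes (Set.mem_univ _))).eq
  have hηc : ¬ IsClosed ({genericPoint X} : Set X) := fun hc => by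
    obtain ⟨S, hS2, -⟩ := CurveSection.exists_closed_finset k hdim 2
    have hall : ∀ z : X, z = genericPoint X := fun z =>
      ((genericPoint_spec X).specializes (Set.mem_univ z)).mem_closed hc (Set.mem_singleton _)
    have : S.card ≤ 1 := Finset.card_le_one.2 fun a _ b _ => (hall a).trans (hall b).symm
    omega
  let T : Set X := {x | x ∈ g '' CohB1.support (cokernel (CurveSpecial.homOfClass t)) ∧ IsClosed ({x} : Set X)}
  have hTc : IsClosed T := by
    have := ((hfin.image g).subset (fun z hz => hz.1 : T ⊆ _)).isClosed_biUnion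
      (f := fun z => ({z} : Set X)) fun z hz => hz.2
    rwa [Set.biUnion_of_singleton] at this
  have hTne : T ≠ Set.univ := fun h => hηc (h ▸ Set.mem_univ (genericPoint X) : genericPoint X ∈ T).2
  obtain ⟨x, hx, hxr, hxT⟩ := exists_rational_notMem k T hTc hTne
  have hxg : x ≠ genericPoint X := fun h => hηc (h ▸ hx)
  refine ⟨ptMod x hx, isInvertible_ptMod x hx k hdim, ?_⟩
  haveI := quasiSeparatedSpace_of_quasiSeparated (X ↘ Spec (CommRingCat.of k))
  haveI := QuasiCompact.compactSpace_of_compactSpace (X ↘ Spec (CommRingCat.of k))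
  haveI : (Scheme.Modules.pullback g).Additive :=
    Adjunction.left_adjoint_additive (Scheme.Modules.pullbackPushforwardAdjunction g)
  haveI := KFlatLib.preservesHomology_pullback g
  haveI := Functor.preservesFiniteLimits_of_preservesHomology (Scheme.Modules.pullback g)
  haveI := Functor.preservesFiniteColimits_of_preservesHomology (Scheme.Modules.pullback g)
  let Q := (Scheme.Modules.pullback g).obj (ClSub.quotMod (ptIdeal x hx))
  have hQX := isCoh_quot x hx k
  have hsuppQ : CohB1.support Q ⊆ g ⁻¹' {x} := by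
    rw [show CohB1.support Q = g ⁻¹' CohB1.support (ClSub.quotMod (ptIdeal x hx)) from
      QCoh.support_pullback g hQX.1 hQX.2]
    exact Set.preimage_mono (support_quot_subset x hx)
  have hclQ : ∀ y ∈ CohB1.support Q, IsClosed ({y} : Set Y) := fun y hy => by
    by_contra hyc
    obtain rfl := CurveCohLib.eq_genericPoint_of_not_isClosed hdimY hyc
    exact hxg ((hsuppQ hy : g (genericPoint Y) = x).symm.trans hgen)
  have hQ : Coh.IsCoh Q := ZClosLib.isCoh_pullback g hQX
  have heQ : Curv2.euler K Y Q = 1 :=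
    (CurveBC.euler_eq k K g hpb _ hQX.1).trans (euler_quot k x hx hxr)
  have hM1 := InvEnd.isFinLocFreeOfRank_one hM
  have hMf : FlatMod.IsFinLocFree M := CurveStable.isFinLocFree_of_rank hM1
  have hT1 := shortExact_of_iso_mid _ _ _
    ((shortExact_pt x hx).map_of_exact (Scheme.Modules.pullback g)) (CurveBC.unitIso g)
  have hT2 := shortExact_of_iso_mid _ _ _
    (CurveTensor.shortExact_tensor hMf _ _ _ hT1) (KFlatLib.tensorUnitIso M)
  have hC := CurveTensor.isCoh_tensor hMf hQ
  have hMc := CurveDeg.isCoh_of_isInvertible hM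
  have heC : Curv2.euler K Y ((DCoh.tensorBi.obj M).obj Q) = 1 := by
    rw [CurveTensor.euler_tensor_torsion K hM1 hQ hclQ, heQ]
    norm_num
  refine ⟨?_, finrank_lt K _ _ _ hT2 hMc (show Curv2.euler K Y ((DCoh.tensorBi.obj M).obj Q) ≠ 0 by omega) t
    fun y hy => not_not.1 fun hs => hxT ⟨⟨y, hs, hsuppQ (CurveTensor.support_tensor_subset hy)⟩, hx⟩⟩
  have hI : Coh.IsCoh ((DCoh.tensorBi.obj M).obj ((Scheme.Modules.pullback g).obj (ptMod x hx))) :=
    CurveTensor.isCoh_tensor hMf (CurveDeg.isCoh_of_isInvertible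
      (PicClLib.isInvertible_pullback g (isInvertible_ptMod x hx k hdim)))
  have hadd : Curv2.euler K Y M =
      Curv2.euler K Y ((DCoh.tensorBi.obj M).obj ((Scheme.Modules.pullback g).obj (ptMod x hx))) +
        Curv2.euler K Y ((DCoh.tensorBi.obj M).obj Q) := euler_add' K _ _ _ hT2 hI hMc hC
  omega

/-- The twist with one section and no higher cohomology. -/
theorem exists_twist {L : Y.Modules} (hL : PicF.IsInvertible L) :
    ∃ L₀ : X.Modules, PicF.IsInvertible L₀ ∧
      Module.finrank K (Coh.HH Y (CohB1.tensorMod L ((Scheme.Modules.pullback g).obj L₀)) 0) = 1 ∧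
      Subsingleton (Coh.HH Y (CohB1.tensorMod L ((Scheme.Modules.pullback g).obj L₀)) 1) := by
  haveI := geometricallyConnected (X := X) k
  have h0 := CurveBC.finrank_h0_of_geometricallyConnected k X
  haveI := CurveBC.isProper k K g hpb
  haveI := CurveBC.isIntegral k K g hpb h0
  have hdimY := CurveBC.topologicalKrullDim_eq k K g hpb hdim
  haveI := CurveCohLib.isNoetherian_of_proper (k := K) (X := Y)
  haveI := CurveCohLib.isNoetherian_of_proper (k := k) (X := X)
  let W : X.Modules → Y.Modules := fun L₀ => (DCoh.tensorBi.obj L).obj ((Scheme.Modules.pullback g).obj L₀)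
  have hW : ∀ L₀, PicF.IsInvertible L₀ → PicF.IsInvertible (W L₀) := fun L₀ h =>
    InvX.isInvertible_tensorMod hL (PicClLib.isInvertible_pullback g h)
  have hχ : ∀ L₀, PicF.IsInvertible L₀ → Curv2.euler K Y (W L₀) =
      (Module.finrank K (Coh.HH Y (W L₀) 0) : ℤ) - Module.finrank K (Coh.HH Y (W L₀) 1) := fun L₀ h =>
    CurveRR.euler_eq_h0_sub_h1 K hdimY.le (CurveDeg.isCoh_of_isInvertible (hW L₀ h)).1
  suffices key : ∀ n : ℕ, ∀ L₀, PicF.IsInvertible L₀ → Module.finrank K (Coh.HH Y (W L₀) 0) = n + 1 →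
      Module.finrank K (Coh.HH Y (W L₀) 1) = 0 →
      ∃ L₁, PicF.IsInvertible L₁ ∧ Module.finrank K (Coh.HH Y (W L₁) 0) = 1 ∧
        Module.finrank K (Coh.HH Y (W L₁) 1) = 0 by
    obtain ⟨L₀, hL₀, hd⟩ := CurveDuality.exists_deg_ge k hdim
      ((Curv2.genus K Y : ℤ) + 1 - Curv2.euler K Y L)
    have hdeg : Curv2.deg K Y (W L₀) 1 = Curv2.deg K Y L 1 + Curv2.deg k X L₀ 1 :=
      (CurveRR.deg_tensor K hdimY hL (PicClLib.isInvertible_pullback g hL₀)).trans
        (congrArg _ (CurveBC.deg_eq k K g hpb _ (CurveDeg.isCoh_of_isInvertible hL₀).1 1))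
    unfold Curv2.deg at hdeg hd
    push_cast at hdeg hd
    haveI := h1_of_genus_le K hdimY (hW L₀ hL₀) (by omega)
    have h1 : Module.finrank K (Coh.HH Y (W L₀) 1) = 0 := Module.finrank_zero_of_subsingleton
    obtain ⟨n, hn⟩ : ∃ n, Module.finrank K (Coh.HH Y (W L₀) 0) = n + 1 :=
      ⟨Module.finrank K (Coh.HH Y (W L₀) 0) - 1, by
        have := hχ L₀ hL₀
        omega⟩
    obtain ⟨L₁, hL₁, a, b⟩ := key n L₀ hL₀ hn h1
    haveI : Module.Finite K (Coh.HH Y (W L₁) 1) :=
      CurveCohLib.finite_HH (k := K) (CurveDeg.isCoh_of_isInvertible (hW L₁ hL₁)) 1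
    exact ⟨L₁, hL₁, a, (Module.finrank_zero_iff (R := K) (M := Coh.HH Y (W L₁) 1)).1 b⟩
  intro n
  induction n with
  | zero => exact fun L₀ h a b => ⟨L₀, h, a, b⟩
  | succ n ih =>
    intro L₀ h a b
    obtain ⟨I, hI, he, hlt⟩ := exists_point_drop k hdim K g hpb hdimY (hW L₀ h)
      (Module.nontrivial_of_finrank_eq_succ a)
    have hI' := InvX.isInvertible_tensorMod h hI
    obtain ⟨e₁⟩ := H23.PicMul.pull g L₀ I
    obtain ⟨e₂⟩ := H23.PicMul.assoc L ((Scheme.Modules.pullback g).obj L₀) ((Scheme.Modules.pullback g).obj I)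
    let e : W (CohB1.tensorMod L₀ I) ≅
        (DCoh.tensorBi.obj (W L₀)).obj ((Scheme.Modules.pullback g).obj I) :=
      (DCoh.tensorBi.obj L).mapIso e₁ ≪≫ e₂.symm
    have f0 := (CurveCohLib.hhEquiv (k := K) e 0).finrank_eq
    have f1 := (CurveCohLib.hhEquiv (k := K) e 1).finrank_eq
    have fe := Euler.euler_congr K e
    have e0 := hχ L₀ h
    have e1 := hχ _ hI'
    exact ih _ hI' (by omega) (by omega)

end Groth.Agent.SepCurveTwist
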